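import Mathlib
import Cfsg.Agent.Lib.Helper55.OOG.Defs

/-!
# Project OOG (S2413), package [TORUS]

`h = [D, P] = D²` with `D = diag(k at e_i, k⁻¹ at f_i, 1 else)` and `P` the swap `e_i ↔ f_i`.
-/

set_option autoImplicit false
open scoped Matrix

namespace Cfsg.Agent.Lib.Helper38.OOG

open Cfsg.Agent.Lib.Helper55.OOG

universe u

section

variable {m : ℕ} {F : Type u} [Field F]

/-- the index type. -/
abbrev Idx (m : ℕ) : Type := Unit ⊕ (Fin m ⊕ Fin m)

/-- the diagonal entries. -/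
def dv (i : Fin m) (k : F) : Idx m → F :=
  fun x => if x = Sum.inr (Sum.inl i) then k else if x = Sum.inr (Sum.inr i) then k⁻¹ else 1

theorem dv_e (i : Fin m) (k : F) : dv i k (Sum.inr (Sum.inl i)) = k := by
  simp [dv]

theorem dv_f (i : Fin m) (k : F) : dv i k (Sum.inr (Sum.inr i)) = k⁻¹ := by
  simp [dv]

theorem dv_other (i : Fin m) (k : F) (x : Idx m) (h1 : x ≠ Sum.inr (Sum.inl i))
    (h2 : x ≠ Sum.inr (Sum.inr i)) : dv i k x = 1 := by
  simp [dv, h1, h2]

theorem dv_ne_zero (i : Fin m) (k : F) (hk : k ≠ 0) (x : Idx m) : dv i k x ≠ 0 := by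
  unfold dv
  split_ifs
  · exact hk
  · exact inv_ne_zero hk
  · exact one_ne_zero

theorem dv_mul (i : Fin m) (k : F) (hk : k ≠ 0) (x : Idx m) : dv i k x * dv i k⁻¹ x = 1 := by
  unfold dv
  split_ifs
  · exact mul_inv_cancel₀ hk
  · rw [inv_inv]; exact inv_mul_cancel₀ hk
  · exact one_mul 1

theorem dv_pair (i : Fin m) (k : F) (hk : k ≠ 0) (j : Fin m) :
    dv i k (Sum.inr (Sum.inl j)) * dv i k (Sum.inr (Sum.inr j)) = 1 := by
  by_cases hj : j = i
  · subst hj
    rw [dv_e, dv_f]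
    exact mul_inv_cancel₀ hk
  · have h1 : dv i k (Sum.inr (Sum.inl j)) = 1 :=
      dv_other i k _ (fun h => hj (Sum.inl.inj (Sum.inr.inj h))) (by simp)
    have h2 : dv i k (Sum.inr (Sum.inr j)) = 1 :=
      dv_other i k _ (by simp) (fun h => hj (Sum.inr.inj (Sum.inr.inj h)))
    rw [h1, h2, one_mul]

/-- the diagonal element as a unit. -/
noncomputable def dGL (i : Fin m) (k : F) (hk : k ≠ 0) :
    Matrix.GeneralLinearGroup (Idx m) F where
  val := Matrix.diagonal (dv i k)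
  inv := Matrix.diagonal (dv i k⁻¹)
  val_inv := by
    rw [Matrix.diagonal_mul_diagonal, ← Matrix.diagonal_one]
    congr 1
    funext x
    exact dv_mul i k hk x
  inv_val := by
    rw [Matrix.diagonal_mul_diagonal, ← Matrix.diagonal_one]
    congr 1
    funext x
    rw [mul_comm]
    exact dv_mul i k hk x

theorem dGL_mem (i : Fin m) (k : F) (hk : k ≠ 0) : dGL i k hk ∈ Iso m F := by
  intro v _
  show QF m F (Matrix.diagonal (dv i k) *ᵥ v) = QF m F v
  unfold QF Cfsg.quadFormOdd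
  simp only [Matrix.mulVec_diagonal]
  rw [dv_other i k (Sum.inl ()) (by simp) (by simp), one_mul]
  congr 1
  apply Finset.sum_congr rfl
  intro j _
  have h := dv_pair i k hk j
  calc dv i k (Sum.inr (Sum.inl j)) * v (Sum.inr (Sum.inl j)) *
        (dv i k (Sum.inr (Sum.inr j)) * v (Sum.inr (Sum.inr j)))
      = (dv i k (Sum.inr (Sum.inl j)) * dv i k (Sum.inr (Sum.inr j))) *
        (v (Sum.inr (Sum.inl j)) * v (Sum.inr (Sum.inr j))) := by ring
    _ = v (Sum.inr (Sum.inl j)) * v (Sum.inr (Sum.inr j)) := by rw [h, one_mul]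

/-- the swap `e_i ↔ f_i`. -/
def sw (i : Fin m) : Equiv.Perm (Idx m) :=
  Equiv.swap (Sum.inr (Sum.inl i)) (Sum.inr (Sum.inr i))

theorem dv_sw (i : Fin m) (k : F) (x : Idx m) : dv i k⁻¹ (sw i x) = dv i k x := by
  by_cases h1 : x = Sum.inr (Sum.inl i)
  · subst h1
    rw [sw, Equiv.swap_apply_left, dv_f, dv_e, inv_inv]
  · by_cases h2 : x = Sum.inr (Sum.inr i)
    · subst h2
      rw [sw, Equiv.swap_apply_right, dv_f, dv_e]
    · rw [sw, Equiv.swap_apply_of_ne_of_ne h1 h2, dv_other i k⁻¹ x h1 h2, dv_other i k x h1 h2]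

/-- the swap as a unit. -/
noncomputable def pGL (i : Fin m) : Matrix.GeneralLinearGroup (Idx m) F where
  val := (sw i).permMatrix F
  inv := (sw i).permMatrix F
  val_inv := by
    rw [← Matrix.permMatrix_mul, sw, Equiv.swap_mul_self, Matrix.permMatrix_one]
  inv_val := by
    rw [← Matrix.permMatrix_mul, sw, Equiv.swap_mul_self, Matrix.permMatrix_one]

theorem pGL_mem (i : Fin m) : (pGL i : Matrix.GeneralLinearGroup (Idx m) F) ∈ Iso m F := by
  intro v _
  show QF m F ((sw i).permMatrix F *ᵥ v) = QF m F v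
  rw [Matrix.permMatrix_mulVec]
  unfold QF Cfsg.quadFormOdd
  simp only [Function.comp_apply]
  have h0 : sw i (Sum.inl ()) = Sum.inl () := by
    rw [sw, Equiv.swap_apply_of_ne_of_ne (by simp) (by simp)]
  rw [h0]
  congr 1
  apply Finset.sum_congr rfl
  intro j _
  by_cases hj : j = i
  · subst hj
    rw [sw, Equiv.swap_apply_left, Equiv.swap_apply_right, mul_comm]
  · have h1 : sw i (Sum.inr (Sum.inl j)) = Sum.inr (Sum.inl j) := by
      rw [sw, Equiv.swap_apply_of_ne_of_ne]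
      · intro h; exact hj (Sum.inl.inj (Sum.inr.inj h))
      · intro h; simp at h
    have h2 : sw i (Sum.inr (Sum.inr j)) = Sum.inr (Sum.inr j) := by
      rw [sw, Equiv.swap_apply_of_ne_of_ne]
      · intro h; simp at h
      · intro h; exact hj (Sum.inr.inj (Sum.inr.inj h))
    rw [h1, h2]

end

theorem pkgTorus : PkgTorus.{u} := by
  intro m F _ _ i k hk
  have hD : ∀ v : Vec m F, mat (⟨dGL i k hk, dGL_mem i k hk⟩ : ↥(Iso m F)) *ᵥ v =
      fun x => dv i k x * v x := by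
    intro v
    funext x
    show (Matrix.diagonal (dv i k) *ᵥ v) x = _
    rw [Matrix.mulVec_diagonal]
  have hDi : ∀ v : Vec m F, mat (⟨dGL i k hk, dGL_mem i k hk⟩ : ↥(Iso m F))⁻¹ *ᵥ v =
      fun x => dv i k⁻¹ x * v x := by
    intro v
    funext x
    show (Matrix.diagonal (dv i k⁻¹) *ᵥ v) x = _
    rw [Matrix.mulVec_diagonal]
  have hP : ∀ v : Vec m F, mat (⟨pGL i, pGL_mem i⟩ : ↥(Iso m F)) *ᵥ v = v ∘ sw i := by
    intro v
    show (sw i).permMatrix F *ᵥ v = _
    rw [Matrix.permMatrix_mulVec]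
  have hPi : ∀ v : Vec m F, mat (⟨pGL i, pGL_mem i⟩ : ↥(Iso m F))⁻¹ *ᵥ v = v ∘ sw i := by
    intro v
    show (sw i).permMatrix F *ᵥ v = _
    rw [Matrix.permMatrix_mulVec]
  have hact : ∀ (v : Vec m F) (x : Idx m),
      (mat (((⟨dGL i k hk, dGL_mem i k hk⟩ : ↥(Iso m F)) * ⟨pGL i, pGL_mem i⟩ *
        (⟨dGL i k hk, dGL_mem i k hk⟩ : ↥(Iso m F))⁻¹ * (⟨pGL i, pGL_mem i⟩ : ↥(Iso m F))⁻¹)) *ᵥ v) x =
        dv i k x * dv i k x * v x := by
    intro v x
    rw [mul_act, mul_act, mul_act, hD, hP, hDi, hPi]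
    simp only [Function.comp_apply]
    rw [dv_sw, sw, Equiv.swap_apply_self]
    ring
  have hpow : ∀ (N : ℕ) (v : Vec m F) (x : Idx m),
      (mat (((⟨dGL i k hk, dGL_mem i k hk⟩ : ↥(Iso m F)) * ⟨pGL i, pGL_mem i⟩ *
        (⟨dGL i k hk, dGL_mem i k hk⟩ : ↥(Iso m F))⁻¹ * (⟨pGL i, pGL_mem i⟩ : ↥(Iso m F))⁻¹) ^ N) *ᵥ v) x =
        (dv i k x * dv i k x) ^ N * v x := by
    intro N
    induction N with
    | zero =>
      intro v x
      rw [pow_zero, one_act, pow_zero, one_mul]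
    | succ N ih =>
      intro v x
      rw [pow_succ', mul_act, hact, ih, pow_succ]
      ring
  refine ⟨((⟨dGL i k hk, dGL_mem i k hk⟩ : ↥(Iso m F)) * ⟨pGL i, pGL_mem i⟩ *
        (⟨dGL i k hk, dGL_mem i k hk⟩ : ↥(Iso m F))⁻¹ * (⟨pGL i, pGL_mem i⟩ : ↥(Iso m F))⁻¹), ?_, ?_, ?_, ?_, ?_⟩
  · show _ ∈ commutator ↥(Iso m F)
    rw [commutator_def]
    have hc := Subgroup.commutator_mem_commutator
      (Subgroup.mem_top (⟨dGL i k hk, dGL_mem i k hk⟩ : ↥(Iso m F)))
      (Subgroup.mem_top (⟨pGL i, pGL_mem i⟩ : ↥(Iso m F)))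
    rw [commutatorElement_def] at hc
    exact hc
  · funext x
    rw [hact]
    by_cases hx : x = Sum.inr (Sum.inl i)
    · subst hx
      rw [dv_e]
      simp
    · simp [Pi.single_apply, hx]
  · funext x
    rw [hact]
    by_cases hx : x = Sum.inl ()
    · subst hx
      rw [dv_other i k (Sum.inl ()) (by simp) (by simp)]
      simp
    · simp [Pi.single_apply, hx]
  · intro j hj
    funext x
    rw [hact]
    by_cases hx : x = Sum.inr (Sum.inl j)
    · subst hx
      rw [dv_other i k (Sum.inr (Sum.inl j)) (fun h => hj (Sum.inl.inj (Sum.inr.inj h)))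
        (by simp)]
      simp
    · simp [Pi.single_apply, hx]
  · apply ext_act
    intro v
    funext x
    rw [hpow, one_act, mul_pow, ← pow_two]
    have h1 : dv i k x ^ (Fintype.card F - 1) = 1 :=
      FiniteField.pow_card_sub_one_eq_one _ (dv_ne_zero i k hk x)
    rw [h1, one_pow, one_mul]

end Cfsg.Agent.Lib.Helper38.OOG
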